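import Groth.Agent.Fano.K470.CurDef
import Groth.Agent.Lefpen.H703.Elim

/-!
# Rescaling (S16526)

`exists_rescale`: let `W` be a component of the space of curves of degree `≤ e + 2` on the cubic and let `(p, (0, c))` be
a point of its boundary.  Then some `(β ^ 2, p, (v, c_0, 0, …, 0))`, `(β, v) ≠ 0`, is a limit of points of `hat W`.

The proof: pull back along `β ↦ β ^ 2`, blow up `(β, v) = 0` (elimination theory, `exists_dir`) and use that `W` is
stable under `a(s) ↦ c a(r s)` (`comp_scale`).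
-/

set_option autoImplicit false

universe u

namespace K473.Rescale

open LefPen Groth.Agent.Lefpen.H703.ZOpen Module K714.Irr K714.Frames K470.Cur

variable {k : Type u} [Field k]

section Gen

variable {V W : Type u} [AddCommGroup V] [Module k V] [AddCommGroup W] [Module k W]

theorem pm_pi {ι : Type} [Finite ι] {φ : V → ι → W} (h : ∀ i, IsPolyMap k (fun v => φ v i)) : IsPolyMap k φ := by
  classical
  cases nonempty_fintype ι
  intro l
  have : (fun v => l (φ v)) = fun v => ∑ i, (l.comp (LinearMap.single k (fun _ => W) i)) (φ v i) := by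
    ext v
    conv_lhs => rw [← Finset.univ_sum_single (φ v), map_sum]
    rfl
  rw [this]
  exact pf_sum _ fun i _ => h i _

theorem subset_cl (S : Set V) : S ⊆ Cl k S := fun v hv _ _ hvO => ⟨v, hv, hvO⟩

theorem isZOpen_compl_cl (S : Set V) : IsZOpen k (Cl k S)ᶜ := by
  refine isZOpen_of_local ?_
  intro v hv
  have hv' : ¬ ∀ O : Set V, IsZOpen k O → v ∈ O → (S ∩ O).Nonempty := hv
  push Not at hv'
  obtain ⟨O, hO, hvO, h⟩ := hv'
  exact ⟨O, hO, hvO, fun w hw hw' => by simpa [h] using hw' O hO hw⟩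

/-- even and odd part in the first coordinate -/
theorem exists_even {g : k × V → k} (hg : IsPolyFun k g) :
    ∃ g0 g1 : k × V → k, IsPolyFun k g0 ∧ IsPolyFun k g1 ∧
      ∀ (β : k) (y : V), g (β, y) = g0 (β ^ 2, y) + β * g1 (β ^ 2, y) := by
  have hf : IsPolyFun k (fun q : k × V => q.1) := isPolyFun_linear' (LinearMap.fst k k V)
  refine pf_induction (p := fun g => ∃ g0 g1 : k × V → k, IsPolyFun k g0 ∧ IsPolyFun k g1 ∧
      ∀ (β : k) (y : V), g (β, y) = g0 (β ^ 2, y) + β * g1 (β ^ 2, y)) hg ?_ ?_ ?_ ?_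
  · intro l
    refine ⟨fun q => ((l.comp (LinearMap.inr k k V)).comp (LinearMap.snd k k V)) q, fun _ => l (1, 0),
      isPolyFun_linear' _, isPolyFun_const _, fun β y => ?_⟩
    have h1 : ((β, y) : k × V) = (0, y) + β • (1, 0) := by simp
    rw [h1, map_add, map_smul, smul_eq_mul]
    simp
  · intro c
    exact ⟨fun _ => c, fun _ => 0, isPolyFun_const _, isPolyFun_const _, fun β y => by simp⟩
  · rintro f g _ _ ⟨f0, f1, hf0, hf1, hf⟩ ⟨g0, g1, hg0, hg1, hg⟩
    refine ⟨fun q => f0 q + g0 q, fun q => f1 q + g1 q, pf_add hf0 hg0, pf_add hf1 hg1, fun β y => ?_⟩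
    simp only
    rw [hf, hg]
    ring
  · rintro f g _ _ ⟨f0, f1, hf0, hf1, hf'⟩ ⟨g0, g1, hg0, hg1, hg'⟩
    refine ⟨fun q => f0 q * g0 q + q.1 * (f1 q * g1 q), fun q => f0 q * g1 q + f1 q * g0 q,
      pf_add (pf_mul hf0 hg0) (pf_mul hf (pf_mul hf1 hg1)), pf_add (pf_mul hf0 hg1) (pf_mul hf1 hg0), fun β y => ?_⟩
    simp only
    rw [hf', hg']
    ring

theorem exists_norm {g : k × V → k} (hg : IsPolyFun k g) :
    ∃ G : k × V → k, IsPolyFun k G ∧ ∀ (β : k) (y : V), G (β ^ 2, y) = g (β, y) * g (-β, y) := by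
  have hf : IsPolyFun k (fun q : k × V => q.1) := isPolyFun_linear' (LinearMap.fst k k V)
  obtain ⟨g0, g1, h0, h1, h⟩ := exists_even hg
  refine ⟨fun q => g0 q * g0 q - q.1 * (g1 q * g1 q), pf_sub (pf_mul h0 h0) (pf_mul hf (pf_mul h1 h1)), fun β y => ?_⟩
  rw [h β y, h (-β) y, neg_sq]
  ring

/-- limits and square roots -/
theorem mem_cl_sq [IsAlgClosed k] {S : Set (k × V)} {y : V} (h : ((0 : k), y) ∈ Cl k S) :
    ((0 : k), y) ∈ Cl k {q : k × V | (q.1 ^ 2, q.2) ∈ S} := by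
  intro O hO hyO
  obtain ⟨g, hg, hgy, hgO⟩ := hO _ hyO
  obtain ⟨G, hG, hGg⟩ := exists_norm hg
  obtain ⟨⟨α, z⟩, hz, hz'⟩ := h {q | G q ≠ 0} (isZOpen_basic hG) (by
    have := hGg 0 y
    rw [neg_zero] at this
    have h0 : ((0 : k) ^ 2) = 0 := by simp
    rw [h0] at this
    change G (0, y) ≠ 0
    rw [this]
    exact mul_ne_zero hgy hgy)
  obtain ⟨β, hβ⟩ := IsAlgClosed.exists_pow_nat_eq α (n := 2) (by norm_num)
  refine ⟨(β, z), ?_, hgO _ ?_⟩
  · change (β ^ 2, z) ∈ S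
    rw [hβ]
    exact hz
  · have h1 : G (α, z) ≠ 0 := hz'
    rw [← hβ, hGg] at h1
    exact left_ne_zero_of_mul h1

/-- blowing up the origin of `V`: limits have a direction -/
theorem exists_dir [IsAlgClosed k] [FiniteDimensional k V] {S : Set (V × W)} (hS : ∀ q ∈ S, q.1 ≠ 0)
    {y : W} (h : ((0 : V), y) ∈ Cl k S) :
    ∃ u : V, u ≠ 0 ∧ ∀ l : V →ₗ[k] k, l u ≠ 0 → ∀ O : Set (k × (V × W)), IsZOpen k O → ((0 : k), (u, y)) ∈ O →
      ∃ (ρ : k) (u' : V) (y' : W), ρ ≠ 0 ∧ (ρ • u', y') ∈ S ∧ (ρ, (u', y')) ∈ O := by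
  classical
  let F : Set (V × (V × W)) := {q | q.1 ≠ 0 ∧ q.2 ∈ S ∧ ∃ ρ : k, q.2.1 = ρ • q.1}
  have hcone : ∀ (v : V) (w : V × W) (c : k), c ≠ 0 → (v, w) ∈ (Cl k F)ᶜ → (c • v, w) ∈ (Cl k F)ᶜ := by
    intro v w c hc hvw hcl
    apply hvw
    intro O hO hO'
    have hm : IsPolyMap k (fun q : V × (V × W) => ((c⁻¹ • q.1, q.2) : V × (V × W))) :=
      pm_prodMk (pm_smul (isPolyFun_const _) isPolyMap_fst) isPolyMap_snd
    obtain ⟨q, hq, hqO⟩ := hcl _ (zo_preimage hO hm) (by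
      simp only [Set.mem_preimage]
      rw [inv_smul_smul₀ hc]
      exact hO')
    refine ⟨_, ?_, hqO⟩
    obtain ⟨h1, h2, ρ, hρ⟩ := hq
    refine ⟨smul_ne_zero (inv_ne_zero hc) h1, h2, c * ρ, ?_⟩
    simp only
    rw [hρ, smul_smul, mul_comm c ρ, mul_assoc, mul_inv_cancel₀ hc, mul_one]
  have hop := Groth.Agent.Lefpen.H703.Elim.isZOpen_forall_ne_zero (isZOpen_compl_cl F) hcone
  have hex : ∃ u : V, u ≠ 0 ∧ (u, ((0 : V), y)) ∈ Cl k F := by
    by_contra hno
    push Not at hno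
    obtain ⟨q, hq, hq'⟩ := h _ hop hno
    exact hq' q.1 (hS q hq) (subset_cl F ⟨hS q hq, hq, 1, (one_smul k _).symm⟩)
  obtain ⟨u, hu, huF⟩ := hex
  refine ⟨u, hu, fun l hl O hO hmem => ?_⟩
  have hδ : IsPolyFun k (fun q : V × (V × W) => l q.1) := isPolyFun_linear' (l.comp (LinearMap.fst k V (V × W)))
  have hQ : IsPolyMap k (fun q : V × (V × W) => (((0 : k), (q.1, q.2.2)) : k × (V × W))) :=
    pm_prodMk (isPolyMap_const _) (pm_prodMk isPolyMap_fst (pm_comp isPolyMap_snd isPolyMap_snd))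
  have hP : IsPolyMap k (fun q : V × (V × W) => ((l q.2.1, 0) : k × (V × W))) :=
    pm_prodMk (isPolyMap_linear ((l.comp (LinearMap.fst k V W)).comp (LinearMap.snd k V (V × W)))) (isPolyMap_const _)
  obtain ⟨⟨u', w', y'⟩, ⟨h1, h2, ρ, hρ⟩, h3, h4⟩ := huF _ (isZOpen_rat hO hδ hQ hP) ⟨hl, by simpa using hmem⟩
  simp only at h1 h2 hρ h3 h4
  subst hρ
  refine ⟨ρ, u', y', ?_, h2, ?_⟩
  · rintro rfl
    exact hS _ h2 (by simp)
  · have h5 : (l u')⁻¹ * (ρ * l u') = ρ := by field_simp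
    simpa [h5] using h4

end Gen

section Main

variable {T : (Fin 5 → k) →ₗ[k] (Fin 5 → k) →ₗ[k] (Fin 5 → k) →ₗ[k] k}

theorem comp_scale [IsAlgClosed k] {e : ℕ} {W : Set (A k e)} (hW : IsComp k (Z T e) W) (c r : k) {a : A k e}
    (ha : a ∈ W) : (fun i => (c * r ^ (i : ℕ)) • a i : A k e) ∈ W := by
  obtain ⟨h1, h2, h3⟩ := hW
  let φ : A k e × (k × k) → A k e := fun q i => (q.2.1 * q.2.2 ^ (i : ℕ)) • q.1 i
  have hφ : IsPolyMap k φ := by
    refine pm_pi fun i => ?_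
    refine pm_smul (pf_mul ?_ (pf_pow ?_ _)) ?_
    · exact isPolyFun_linear' ((LinearMap.fst k k k).comp (LinearMap.snd k (A k e) (k × k)))
    · exact isPolyFun_linear' ((LinearMap.snd k k k).comp (LinearMap.snd k (A k e) (k × k)))
    · exact isPolyMap_linear ((LinearMap.proj i).comp (LinearMap.fst k (A k e) (k × k)))
  have hirr : Irr k (φ '' {q : A k e × (k × k) | q.1 ∈ W}) := (Irr.prod_univ h2).image hφ
  have hsub : φ '' {q : A k e × (k × k) | q.1 ∈ W} ⊆ Z T e := by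
    rintro _ ⟨⟨b, c', r'⟩, hb, rfl⟩ s
    have hev : ev (φ (b, c', r')) s = c' • ev b (r' * s) := by
      simp only [ev, φ, Finset.smul_sum, smul_smul]
      refine Finset.sum_congr rfl fun i _ => ?_
      congr 1
      rw [mul_pow]
      ring
    rw [hev]
    simp only [map_smul, LinearMap.smul_apply, smul_eq_mul]
    have := h1 hb (r' * s)
    rw [this]
    simp
  have hle : W ⊆ φ '' {q : A k e × (k × k) | q.1 ∈ W} := by
    intro b hb
    refine ⟨(b, 1, 1), hb, ?_⟩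
    funext i
    simp [φ]
  rw [← h3 _ hsub hirr hle]
  exact ⟨(a, c, r), ha, rfl⟩

/-- rescaling -/
theorem exists_rescale [IsAlgClosed k] {e : ℕ} {W : Set (A k (e + 2))}
    (hW : IsComp k (Z T (e + 2)) W) {p : Fin 5 → k} {c : A k e} (h : (p, (Fin.cons 0 c : A k (e + 1))) ∈ bd W) :
    ∃ (β : k) (v : Fin 5 → k), (β ≠ 0 ∨ v ≠ 0) ∧
      ((β ^ 2, p, (pad (![v, c 0] : A k 1) : A k (e + 1))) : k × (Fin 5 → k) × A k (e + 1)) ∈ Cl k (hat W) := by
  -- the set of `(β, b, p)` with `(β ^ 2, p, b) ∈ hat W`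
  have h1 : ((0 : k), (p, (Fin.cons 0 c : A k (e + 1)))) ∈ Cl k (hat W) := h
  have h2 := mem_cl_sq h1
  let S : Set ((k × (Fin 5 → k)) × ((Fin 5 → k) × A k e)) :=
    {q | q.1.1 ≠ 0 ∧ (q.1.1 ^ 2, (q.2.1, (Fin.cons q.1.2 q.2.2 : A k (e + 1)))) ∈ hat W}
  have h3 : (((0 : k × (Fin 5 → k)), (p, c)) : (k × (Fin 5 → k)) × ((Fin 5 → k) × A k e)) ∈ Cl k S := by
    intro O hO hmem
    let ψ : k × ((Fin 5 → k) × A k (e + 1)) → (k × (Fin 5 → k)) × ((Fin 5 → k) × A k e) :=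
      fun q => ((q.1, q.2.2 0), (q.2.1, fun i => q.2.2 i.succ))
    have hψ : IsPolyMap k ψ := by
      refine pm_prodMk (pm_prodMk isPolyMap_fst ?_) (pm_prodMk ?_ (pm_pi fun i => ?_))
      · exact isPolyMap_linear ((LinearMap.proj 0).comp ((LinearMap.snd k (Fin 5 → k) (A k (e + 1))).comp
          (LinearMap.snd k k ((Fin 5 → k) × A k (e + 1)))))
      · exact isPolyMap_linear ((LinearMap.fst k (Fin 5 → k) (A k (e + 1))).comp
          (LinearMap.snd k k ((Fin 5 → k) × A k (e + 1))))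
      · exact isPolyMap_linear ((LinearMap.proj i.succ).comp ((LinearMap.snd k (Fin 5 → k) (A k (e + 1))).comp
          (LinearMap.snd k k ((Fin 5 → k) × A k (e + 1)))))
    obtain ⟨⟨β, p', b⟩, hq, hqO⟩ := h2 _ (zo_preimage hO hψ) (by
      simp only [Set.mem_preimage, ψ, Fin.cons_zero, Fin.cons_succ]
      exact hmem)
    refine ⟨ψ (β, p', b), ⟨?_, ?_⟩, hqO⟩
    · intro h0
      apply hq.1
      simp only [ψ] at h0
      simp [h0]
    · have : (Fin.cons (b 0) (fun i => b i.succ) : A k (e + 1)) = b := Fin.cons_self_tail b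
      simp only [ψ]
      rw [this]
      exact hq
  obtain ⟨⟨β, v⟩, hu, hdir⟩ := exists_dir (fun q hq h0 => hq.1 (by rw [h0]; rfl)) h3
  have hne : β ≠ 0 ∨ v ≠ 0 := by
    by_contra hcon
    push Not at hcon
    exact hu (by rw [hcon.1, hcon.2]; rfl)
  refine ⟨β, v, hne, fun O hO hmem => ?_⟩
  obtain ⟨l, hl⟩ : ∃ l : (k × (Fin 5 → k)) →ₗ[k] k, l (β, v) ≠ 0 := by
    by_contra h
    push Not at h
    exact hu ((Module.forall_dual_apply_eq_zero_iff k (β, v)).1 h)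
  let Ψ : k × ((k × (Fin 5 → k)) × ((Fin 5 → k) × A k e)) → k × ((Fin 5 → k) × A k (e + 1)) :=
    fun q => (q.2.1.1 ^ 2, (q.2.2.1, (Fin.cons q.2.1.2 (fun i => q.1 ^ (i : ℕ) • q.2.2.2 i) : A k (e + 1))))
  have hΨ : IsPolyMap k Ψ := by
    refine pm_prodMk ?_ (pm_prodMk ?_ (pm_pi fun i => ?_))
    · rw [isPolyMap_iff_isPolyFun]
      refine pf_pow ?_ 2
      exact isPolyFun_linear' ((LinearMap.fst k k (Fin 5 → k)).comp ((LinearMap.fst k (k × (Fin 5 → k))
        ((Fin 5 → k) × A k e)).comp (LinearMap.snd k k ((k × (Fin 5 → k)) × ((Fin 5 → k) × A k e)))))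
    · exact isPolyMap_linear ((LinearMap.fst k (Fin 5 → k) (A k e)).comp ((LinearMap.snd k (k × (Fin 5 → k))
        ((Fin 5 → k) × A k e)).comp (LinearMap.snd k k ((k × (Fin 5 → k)) × ((Fin 5 → k) × A k e)))))
    · refine Fin.cases ?_ (fun i => ?_) i
      · simp only [Fin.cons_zero]
        exact isPolyMap_linear ((LinearMap.snd k k (Fin 5 → k)).comp ((LinearMap.fst k (k × (Fin 5 → k))
          ((Fin 5 → k) × A k e)).comp (LinearMap.snd k k ((k × (Fin 5 → k)) × ((Fin 5 → k) × A k e)))))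
      · simp only [Fin.cons_succ]
        refine pm_smul (pf_pow ?_ _) ?_
        · exact isPolyFun_linear' (LinearMap.fst k k ((k × (Fin 5 → k)) × ((Fin 5 → k) × A k e)))
        · exact isPolyMap_linear ((LinearMap.proj i).comp ((LinearMap.snd k (Fin 5 → k) (A k e)).comp
            ((LinearMap.snd k (k × (Fin 5 → k)) ((Fin 5 → k) × A k e)).comp
              (LinearMap.snd k k ((k × (Fin 5 → k)) × ((Fin 5 → k) × A k e))))))
  have hpad : (Fin.cons v (fun i => (0 : k) ^ (i : ℕ) • c i) : A k (e + 1)) = pad (![v, c 0] : A k 1) := by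
    funext i
    refine Fin.cases ?_ (fun i => ?_) i
    · simp [pad]
    · refine Fin.cases ?_ (fun i => ?_) i
      · simp [pad]
      · simp [pad]
  obtain ⟨ρ, ⟨β', v'⟩, ⟨p', c'⟩, hρ, ⟨hq1, hq2⟩, hq3⟩ := hdir l hl _ (zo_preimage hO hΨ) (by
    simp only [Set.mem_preimage, Ψ]
    rw [hpad]
    exact hmem)
  simp only [Prod.smul_mk, smul_eq_mul] at hq1 hq2
  refine ⟨_, ⟨?_, ?_⟩, hq3⟩
  · simp only [Ψ]
    exact pow_ne_zero _ (right_ne_zero_of_mul hq1)
  · have h5 := comp_scale hW ((ρ ^ 2)⁻¹) ρ hq2.2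
    simp only at h5
    convert h5 using 1
    funext i
    refine Fin.cases ?_ (fun i => ?_) i
    · simp only [Ψ, Fin.cons_zero, Fin.val_zero, pow_zero, mul_one, smul_smul]
      congr 1
      field_simp
    · simp only [Ψ, Fin.cons_succ]
      refine Fin.cases ?_ (fun i => ?_) i
      · simp only [Fin.cons_zero, Fin.val_succ, Fin.val_zero, zero_add, pow_one, smul_smul]
        have : (ρ ^ 2)⁻¹ * ρ * ρ = 1 := by field_simp
        rw [this, one_smul]
      · simp only [Fin.cons_succ, Fin.val_succ]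
        congr 1
        field_simp
        ring

end Main

end K473.Rescale
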